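import Groth.Agent.FpqcDescent.Basic
import Mathlib

/-!
# Descent of immersions
-/

set_option autoImplicit false
universe u

open CategoryTheory CategoryTheory.Limits AlgebraicGeometry

namespace Groth.Agent.ImmDescent

variable {X Y Y' : Scheme.{u}}

/-- Points of the closure of the range of a quasi-compact morphism are specialisations of the range. -/
theorem exists_specializes_of_mem_closure_range (f : X ⟶ Y) [QuasiCompact f] {y : Y}
    (hy : y ∈ closure (Set.range f)) : ∃ x : X, f x ⤳ y := by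
  obtain ⟨_, ⟨U, hU, rfl⟩, hyU, -⟩ := Y.isBasis_affineOpens.exists_subset_of_mem_open
    (Set.mem_univ y) isOpen_univ
  have : IsAffine (U : Scheme.{u}) := hU
  have : CompactSpace ↥((f ⁻¹ᵁ U : X.Opens) : Scheme.{u}) :=
    isCompact_iff_compactSpace.mp (f.isCompact_preimage hU.isCompact)
  obtain ⟨R, r, hr⟩ := compactSpace_iff_exists.mp this
  obtain ⟨φ, hφ⟩ := Spec.map_surjective (r ≫ f ∣_ U ≫ (U : Scheme.{u}).isoSpec.hom)
  let e := (U : Scheme.{u}).isoSpec.hom.homeomorph
  have hcl : e ⟨y, hyU⟩ ∈ closure (Set.range (PrimeSpectrum.comap φ.hom)) := by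
    have h1 : (⟨y, hyU⟩ : U) ∈ closure (Set.range (f ∣_ U)) := by
      refine closure_subtype.mpr ?_
      refine closure_mono ?_ (mem_closure_of_inter hy)
      rintro z ⟨⟨x, rfl⟩, hz⟩
      exact ⟨(f ∣_ U) ⟨x, hz⟩, ⟨⟨x, hz⟩, rfl⟩, congrArg (fun g => g ⟨x, hz⟩) (morphismRestrict_ι f U)⟩
    have h2 := image_closure_subset_closure_image e.continuous ⟨_, h1, rfl⟩
    refine closure_mono ?_ h2
    rintro _ ⟨_, ⟨x, rfl⟩, rfl⟩
    obtain ⟨t, rfl⟩ := hr x
    refine ⟨t, ?_⟩
    show (Spec.map φ) t = _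
    rw [hφ]; rfl
  rw [PrimeSpectrum.closure_range_comap] at hcl
  replace hcl := (PrimeSpectrum.mem_zeroLocus (e ⟨y, hyU⟩) _).mp hcl
  obtain ⟨p, hp, hpy⟩ := Ideal.exists_minimalPrimes_le (I := RingHom.ker φ.hom) (J := (e ⟨y, hyU⟩).asIdeal) hcl
  obtain ⟨q, hq, hqp⟩ := Ideal.exists_comap_eq_of_mem_minimalPrimes (I := ⊥) φ.hom p
    (by rwa [← RingHom.ker_eq_comap_bot])
  have h3 : PrimeSpectrum.comap φ.hom ⟨q, hq⟩ ⤳ e ⟨y, hyU⟩ :=
    (PrimeSpectrum.le_iff_specializes _ _).mp (show Ideal.comap φ.hom q ≤ _ from hqp.2 ▸ hpy)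
  have h4 : e ((f ∣_ U) (r ⟨q, hq⟩)) ⤳ e ⟨y, hyU⟩ := by
    convert! h3 using 1
    show _ = (Spec.map φ) ⟨q, hq⟩
    rw [hφ]; rfl
  have h5 := (e.isInducing.specializes_iff.mp h4).map (Scheme.Opens.ι U).continuous
  refine ⟨(f ⁻¹ᵁ U).ι (r ⟨q, hq⟩), ?_⟩
  rwa [← Scheme.Hom.comp_apply, morphismRestrict_ι, Scheme.Hom.comp_apply] at h5
where
  mem_closure_of_inter {U : Y.Opens} {s : Set Y} (hys : y ∈ closure s) (hyU : y ∈ U := by assumption) :
      y ∈ closure (s ∩ U) := by
    rw [mem_closure_iff] at hys ⊢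
    intro o ho hyo
    obtain ⟨z, hz, hzs⟩ := hys (o ∩ U) (ho.inter U.2) ⟨hyo, hyU⟩
    exact ⟨z, hz.1, hzs, hz.2⟩

theorem preimage_closure_range (f : X ⟶ Y) [QuasiCompact f] (g : Y' ⟶ Y) [Flat g] :
    g ⁻¹' closure (Set.range f) = closure (g ⁻¹' Set.range f) := by
  refine Set.Subset.antisymm (fun y' hy' => ?_) (g.continuous.closure_preimage_subset _)
  obtain ⟨x, hx⟩ := exists_specializes_of_mem_closure_range f hy'
  obtain ⟨z, hz, hzx⟩ := Flat.generalizingMap g hx
  exact hz.mem_closed isClosed_closure (subset_closure ⟨x, hzx.symm⟩)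

/-- An immersion after base change along a submersive morphism commuting with closures is a closed immersion
into an open subscheme of the base. -/
theorem exists_factorization (f : X ⟶ Y) (g : Y' ⟶ Y) [IsImmersion (pullback.snd f g)]
    (hq : Topology.IsQuotientMap g) (hcl : g ⁻¹' closure (Set.range f) = closure (g ⁻¹' Set.range f)) :
    ∃ (W : Y.Opens) (h : X ⟶ (W : Scheme.{u})), h ≫ W.ι = f ∧
      IsClosedImmersion (pullback.snd h (g ∣_ W)) := by
  have hlc : IsLocallyClosed (g ⁻¹' Set.range f) := by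
    rw [← Scheme.Pullback.range_snd]; exact (pullback.snd f g).isLocallyClosed_range
  have hop : IsOpen (coborder (g ⁻¹' Set.range f)) := hlc.isOpen_coborder
  have hop' : IsOpen (coborder (Set.range f)) := by
    rw [← hq.isOpen_preimage]
    convert! hop using 1
    simp only [coborder, Set.preimage_compl, Set.preimage_sdiff, hcl]
  let W : Y.Opens := ⟨_, hop'⟩
  have hsub : Set.range f ⊆ Set.range W.ι := by
    rw [Scheme.Opens.range_ι]; exact subset_coborder
  let h := IsOpenImmersion.lift W.ι f hsub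
  have hh : h ≫ W.ι = f := IsOpenImmersion.lift_fac _ _ _
  refine ⟨W, h, hh, ?_⟩
  have sq : IsPullback (pullback.fst h (g ∣_ W)) (pullback.snd h (g ∣_ W) ≫ (g ⁻¹ᵁ W).ι) f g := by
    rw [← hh]
    exact (IsPullback.of_hasPullback h (g ∣_ W)).paste_vert (isPullback_morphismRestrict g W)
  have hsnd : pullback.snd h (g ∣_ W) ≫ (g ⁻¹ᵁ W).ι = sq.isoPullback.hom ≫ pullback.snd f g :=
    (sq.isoPullback_hom_snd).symm
  have : IsImmersion (pullback.snd h (g ∣_ W) ≫ (g ⁻¹ᵁ W).ι) := by rw [hsnd]; infer_instance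
  have : IsImmersion (pullback.snd h (g ∣_ W)) := IsImmersion.of_comp _ (g ⁻¹ᵁ W).ι
  refine IsClosedImmersion.of_isPreimmersion _ ?_
  rw [Scheme.Pullback.range_snd]
  refine IsClosed.preimage (g ∣_ W).continuous ?_
  have h1 : Set.range h = W.ι ⁻¹' closure (Set.range f) := by
    have h2 : Set.range f = W.ι '' Set.range h := by
      rw [← Set.range_comp, ← hh]; rfl
    ext w
    constructor
    · rintro ⟨x, rfl⟩
      exact subset_closure ⟨x, by rw [← Scheme.Hom.comp_apply, hh]⟩
    · intro hw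
      have h3 : W.ι w ∈ Set.range f := closure_inter_coborder.le ⟨hw, w.2⟩
      rw [h2] at h3
      exact (W.ι.injective.mem_set_image).mp h3
  rw [h1]
  exact isClosed_closure.preimage W.ι.continuous

/-- fpqc descent of quasi-compact immersions. -/
theorem qcImmersion_descendsAlong :
    MorphismProperty.DescendsAlong (@IsImmersion ⊓ @QuasiCompact : MorphismProperty Scheme.{u})
      (@Surjective ⊓ @Flat ⊓ @QuasiCompact : MorphismProperty Scheme.{u}) := by
  have := FpqcDescent.quasiCompact_descendsAlong.{u}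
  have := FpqcDescent.isClosedImmersion_descendsAlong.{u}
  refine MorphismProperty.DescendsAlong.mk' ?_
  rintro Y' X Y g f _ ⟨⟨hs, hfl⟩, hqc⟩ ⟨hi, hc⟩
  -- in this convention the base change of `f` is the projection to the source of `g`
  have hg : (@Surjective ⊓ @Flat ⊓ @QuasiCompact : MorphismProperty Scheme.{u}) g :=
    ⟨⟨hs, hfl⟩, hqc⟩
  have hfqc : QuasiCompact f := MorphismProperty.of_pullback_fst_of_descendsAlong (P := @QuasiCompact)
    (Q := @Surjective ⊓ @Flat ⊓ @QuasiCompact) hg hc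
  have : IsImmersion (pullback.snd f g) := by
    rw [← pullbackSymmetry_hom_comp_fst]; infer_instance
  obtain ⟨W, h, hh, hcli⟩ := exists_factorization f g (Flat.isQuotientMap_of_surjective g)
    (preimage_closure_range f g)
  have : IsClosedImmersion h := MorphismProperty.of_pullback_snd_of_descendsAlong (P := @IsClosedImmersion)
    (Q := @Surjective ⊓ @Flat ⊓ @QuasiCompact)
    ⟨⟨IsZariskiLocalAtTarget.restrict hs W, IsZariskiLocalAtTarget.restrict hfl W⟩,
      IsZariskiLocalAtTarget.restrict hqc W⟩ hcli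
  refine ⟨?_, hfqc⟩
  rw [← hh]
  infer_instance

/-- fppf descent of immersions. -/
theorem immersion_descendsAlong :
    MorphismProperty.DescendsAlong (@IsImmersion : MorphismProperty Scheme.{u})
      (@Surjective ⊓ @Flat ⊓ @LocallyOfFinitePresentation : MorphismProperty Scheme.{u}) := by
  have := FpqcDescent.isClosedImmersion_descendsAlong.{u}
  refine MorphismProperty.DescendsAlong.mk' ?_
  rintro Y' X Y g f _ ⟨⟨hs, hfl⟩, hlfp⟩ hi
  have : IsImmersion (pullback.snd f g) := by
    rw [← pullbackSymmetry_hom_comp_fst]; infer_instance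
  obtain ⟨W, h, hh, hcli⟩ := exists_factorization f g
    (g.isOpenMap.isQuotientMap g.continuous g.surjective)
    (g.isOpenMap.preimage_closure_eq_closure_preimage g.continuous _)
  have : IsClosedImmersion h := MorphismProperty.of_pullback_snd_of_descendsAlong (P := @IsClosedImmersion)
    (Q := @Surjective ⊓ @Flat ⊓ @LocallyOfFinitePresentation)
    ⟨⟨IsZariskiLocalAtTarget.restrict hs W, IsZariskiLocalAtTarget.restrict hfl W⟩,
      IsZariskiLocalAtTarget.restrict hlfp W⟩ hcli
  rw [← hh]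
  infer_instance

end Groth.Agent.ImmDescent
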