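import Groth.Agent.ImmDescent.Basic
import Groth.Prelude.Def_Mor2

/-!
# fpqc descent of quasi-affine morphisms
-/

set_option autoImplicit false
universe u

open CategoryTheory CategoryTheory.Limits AlgebraicGeometry

namespace Groth.Agent.ImmDescent

/-- Quasi-affineness is local on an affine base. -/
theorem isQuasiAffine_of_local {W S : Scheme.{u}} [IsAffine S] (p : W ⟶ S) [QuasiCompact p]
    (H : ∀ s : S, ∃ O : S.Opens, IsAffineOpen O ∧ s ∈ O ∧
      Scheme.IsQuasiAffine ((p ⁻¹ᵁ O : W.Opens) : Scheme.{u})) :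
    Scheme.IsQuasiAffine W := by
  choose O hO hsO hQA using H
  have hc : TopologicalSpace.IsOpenCover O :=
    eq_top_iff.mpr fun s _ => TopologicalSpace.Opens.mem_iSup.mpr ⟨s, hsO s⟩
  have hsep : IsSeparated p := IsZariskiLocalAtTarget.of_iSup_eq_top (P := @IsSeparated) O hc fun s => by
    have := hQA s
    have : IsSeparated ((p ∣_ O s) ≫ terminal.from _) := by
      rw [terminal.comp_from]; infer_instance
    exact IsSeparated.of_comp (p ∣_ O s) (terminal.from _)
  have : W.IsSeparated := ⟨by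
    rw [← terminal.comp_from p]
    infer_instance⟩
  have : CompactSpace W := QuasiCompact.compactSpace_of_compactSpace p
  refine .of_forall_exists_mem_basicOpen W fun x => ?_
  obtain ⟨_, ⟨_, ⟨t, rfl⟩, rfl⟩, hxt, htO⟩ := (isBasis_basicOpen S).exists_subset_of_mem_open
    (hsO (p x)) (O (p x)).2
  let t' : Γ(W, ⊤) := p.appTop t
  have hxt' : x ∈ W.basicOpen t' := by
    rw [← Scheme.preimage_basicOpen_top]; exact hxt
  have hle : W.basicOpen t' ≤ p ⁻¹ᵁ O (p x) := by
    rw [← Scheme.preimage_basicOpen_top]; exact fun y hy => htO hy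
  have hcpt : IsCompact (W.basicOpen t' : Set W) := by
    rw [← Scheme.preimage_basicOpen_top]
    exact p.isCompact_preimage ((isAffineOpen_top S).basicOpen t).isCompact
  have : CompactSpace ↥((W.basicOpen t' : W.Opens) : Scheme.{u}) := isCompact_iff_compactSpace.mp hcpt
  have := hQA (p x)
  have hW : Scheme.IsQuasiAffine ((W.basicOpen t' : W.Opens) : Scheme.{u}) :=
    Scheme.IsQuasiAffine.of_isImmersion (W.homOfLE hle)
  obtain ⟨_, ⟨_, ⟨r, hr, rfl⟩, rfl⟩, hxr, -⟩ :=
    (Scheme.IsQuasiAffine.isBasis_basicOpen ((W.basicOpen t' : W.Opens) : Scheme.{u})).exists_subset_of_mem_open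
      (Set.mem_univ ⟨x, hxt'⟩) isOpen_univ
  let r' : Γ(W, W.basicOpen t') := W.presheaf.map (eqToHom (W.basicOpen t').ι_image_top.symm).op r
  have hr' : (W.basicOpen t').ι ''ᵁ Scheme.basicOpen _ r = W.basicOpen r' :=
    Scheme.Opens.ι_image_basicOpen' (W.basicOpen t') r
  have hraff : IsAffineOpen (W.basicOpen r') := hr' ▸ hr.image_of_isOpenImmersion _
  have hxr' : x ∈ W.basicOpen r' := hr' ▸ ⟨⟨x, hxt'⟩, hxr, rfl⟩
  have := isLocalization_basicOpen_of_qcqs (X := W) (U := ⊤) isCompact_univ isQuasiSeparated_univ t'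
  obtain ⟨⟨a, ⟨_, n, rfl⟩⟩, ha⟩ := IsLocalization.surj (Submonoid.powers t') r'
  let ρ := W.presheaf.map (homOfLE (le_top : W.basicOpen t' ≤ ⊤)).op
  have hu : IsUnit (ρ t') := IsLocalization.map_units Γ(W, W.basicOpen t') (⟨t', Submonoid.mem_powers t'⟩ : Submonoid.powers t')
  have he : W.basicOpen (a * t') = W.basicOpen r' := by
    have h1 : W.basicOpen (ρ a) = W.basicOpen t' ⊓ W.basicOpen a := Scheme.basicOpen_res _ _ _
    have h2 : W.basicOpen (ρ a) = W.basicOpen r' := by
      change r' * ρ (t' ^ n) = ρ a at ha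
      rw [← ha, map_pow, Scheme.basicOpen_mul, W.basicOpen_of_isUnit (hu.pow n)]
      exact inf_eq_left.mpr (W.basicOpen_le r')
    rw [Scheme.basicOpen_mul, inf_comm, ← h1, h2]
  exact ⟨a * t', he ▸ hraff, he ▸ hxr'⟩

/-- Quasi-affineness over an affine base descends along a flat surjection of affine schemes. -/
theorem isQuasiAffine_of_pullback {Z T S : Scheme.{u}} [IsAffine T] [IsAffine S] (h : Z ⟶ S) (q : T ⟶ S)
    [Flat q] [Surjective q] [QuasiCompact h] [QuasiSeparated h]
    (hQA : Scheme.IsQuasiAffine (pullback h q)) : Scheme.IsQuasiAffine Z := by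
  have : CompactSpace Z := QuasiCompact.compactSpace_of_compactSpace h
  have : QuasiSeparatedSpace Z := quasiSeparatedSpace_of_quasiSeparated h
  have hpb := IsPullback.of_hasPullback h q
  have hpo : IsPushout h.appTop q.appTop (pullback.fst h q).appTop (pullback.snd h q).appTop := by
    have hiso := isIso_pushoutSection_of_isQuasiSeparated_of_flat_right (US := ⊤) (UT := ⊤) (UX := ⊤)
      (UY := ⊤) hpb (hUST := by simp) (hUSX := by simp) (hUY := by simp) (isAffineOpen_top S)
      (isAffineOpen_top T) isCompact_univ isQuasiSeparated_univ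
    have := (isIso_pushoutSection_iff _ _ _ _).mp hiso
    simpa [Scheme.Hom.appLE] using this
  have houter : IsPullback (pullback.fst h q) ((pullback h q).toSpecΓ ≫ Spec.map (pullback.snd h q).appTop)
      (Z.toSpecΓ ≫ Spec.map h.appTop) (Spec.map q.appTop) := by
    rw [← Scheme.toSpecΓ_naturality, ← Scheme.toSpecΓ_naturality]
    exact IsPullback.of_iso hpb (Iso.refl _) (Iso.refl _) (asIso T.toSpecΓ) (asIso S.toSpecΓ)
      (by simp) (by simp) (by simp) (by simp [← Scheme.toSpecΓ_naturality])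
  have hbot : IsPullback (Spec.map (pullback.fst h q).appTop) (Spec.map (pullback.snd h q).appTop)
      (Spec.map h.appTop) (Spec.map q.appTop) := by
    simpa using (hpo.op.map Scheme.Spec).flip
  have hleft : IsPullback (pullback.fst h q) (pullback h q).toSpecΓ Z.toSpecΓ
      (Spec.map (pullback.fst h q).appTop) :=
    IsPullback.of_bot houter (Scheme.toSpecΓ_naturality _) hbot
  have hQ : (@Surjective ⊓ @Flat ⊓ @QuasiCompact : MorphismProperty Scheme.{u}) (Spec.map q.appTop) := by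
    have he : Spec.map q.appTop = (asIso T.toSpecΓ).inv ≫ q ≫ S.toSpecΓ := by
      rw [Iso.eq_inv_comp, asIso_hom, Scheme.toSpecΓ_naturality]
    refine ⟨⟨?_, ?_⟩, inferInstance⟩ <;> rw [he] <;> infer_instance
  have hQ' : (@Surjective ⊓ @Flat ⊓ @QuasiCompact : MorphismProperty Scheme.{u})
      (Spec.map (pullback.fst h q).appTop) := MorphismProperty.of_isPullback hbot.flip hQ
  have : IsOpenImmersion Z.toSpecΓ :=
    MorphismProperty.of_isPullback_of_descendsAlong (P := @IsOpenImmersion)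
      (Q := @Surjective ⊓ @Flat ⊓ @QuasiCompact) hleft.flip hQ' inferInstance
  constructor

/-- fpqc descent of quasi-affine morphisms. -/
theorem quasiAffine_descendsAlong :
    MorphismProperty.DescendsAlong (fun _ _ f => Mor2.IsQuasiAffine f : MorphismProperty Scheme.{u})
      (@Surjective ⊓ @Flat ⊓ @QuasiCompact : MorphismProperty Scheme.{u}) := by
  have := FpqcDescent.quasiCompact_descendsAlong.{u}
  have := FpqcDescent.quasiSeparated_descendsAlong.{u}
  constructor
  intro A Y' X Y p' f' g f sq hg hf'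
  obtain ⟨⟨hs, hfl⟩, hqc⟩ := hg
  have hg : (@Surjective ⊓ @Flat ⊓ @QuasiCompact : MorphismProperty Scheme.{u}) g := ⟨⟨hs, hfl⟩, hqc⟩
  have hsep : IsSeparated p' := IsZariskiLocalAtTarget.of_iSup_eq_top (P := @IsSeparated)
    (fun V : Y'.affineOpens => (V : Y'.Opens)) (iSup_affineOpens_eq_top Y') fun V => by
    have := hf'.2 V V.2
    have : IsSeparated ((p' ∣_ (V : Y'.Opens)) ≫ terminal.from _) := by
      rw [terminal.comp_from]; infer_instance
    exact IsSeparated.of_comp (p' ∣_ (V : Y'.Opens)) (terminal.from _)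
  have := hf'.1
  have hfqc : QuasiCompact f := MorphismProperty.of_isPullback_of_descendsAlong (P := @QuasiCompact)
    (Q := @Surjective ⊓ @Flat ⊓ @QuasiCompact) sq hg hf'.1
  have hfqs : QuasiSeparated f := MorphismProperty.of_isPullback_of_descendsAlong (P := @QuasiSeparated)
    (Q := @Surjective ⊓ @Flat ⊓ @QuasiCompact) sq hg inferInstance
  refine ⟨hfqc, fun V hV => ?_⟩
  have : IsAffine (V : Scheme.{u}) := hV
  obtain ⟨t, ht, htf, htV⟩ := Y'.isBasis_affineOpens.exists_finite_of_isCompact (U := g ⁻¹ᵁ V)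
    (g.isCompact_preimage hV.isCompact)
  have := htf.to_subtype
  have hle : ∀ O : t, (O : Y'.Opens) ≤ g ⁻¹ᵁ V := fun O => htV ▸ le_sSup O.2
  let T : t → Scheme.{u} := fun O => ((O : Y'.Opens) : Scheme.{u})
  have : ∀ O : t, IsAffine (T O) := fun O => ht O.2
  let q : (∐ T) ⟶ (V : Scheme.{u}) := Sigma.desc fun O => g.resLE V O (hle O)
  have hqi : ∀ O, Sigma.ι T O ≫ q = g.resLE V O (hle O) := fun O => Sigma.ι_desc _ _
  have : Surjective q := ⟨fun v => by
    obtain ⟨y, hy⟩ := g.surjective v.1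
    have hyV : y ∈ g ⁻¹ᵁ V := by show g y ∈ V; rw [hy]; exact v.2
    rw [htV] at hyV
    obtain ⟨O, hO, hyO⟩ := TopologicalSpace.Opens.mem_sSup.mp hyV
    refine ⟨Sigma.ι T ⟨O, hO⟩ ⟨y, hyO⟩, V.ι.injective ?_⟩
    rw [← Scheme.Hom.comp_apply (Sigma.ι T ⟨O, hO⟩), hqi, ← Scheme.Hom.comp_apply, Scheme.Hom.resLE_comp_ι]
    exact hy⟩
  have : Flat q := IsZariskiLocalAtSource.of_openCover (P := @Flat) (sigmaOpenCover T) fun O => by
    show Flat (Sigma.ι T O ≫ q)
    rw [hqi]; infer_instance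
  refine isQuasiAffine_of_pullback (f ∣_ V) q ?_
  refine isQuasiAffine_of_local (pullback.snd (f ∣_ V) q) fun z => ?_
  obtain ⟨O, x, rfl⟩ := (sigmaOpenCover T).exists_eq z
  refine ⟨(Sigma.ι T O).opensRange, isAffineOpen_opensRange _, ⟨x, rfl⟩, ?_⟩
  -- the piece over `O` is an open subscheme of the preimage of `O`
  let O' : Y'.Opens := Subtype.val (O : ↥t)
  let b : T O ⟶ Y' := O'.ι
  have hb : (Sigma.ι T O ≫ q) ≫ V.ι = b ≫ g := by
    rw [hqi]; exact Scheme.Hom.resLE_comp_ι (f := g) _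
  let P := pullback (f ∣_ V) (Sigma.ι T O ≫ q)
  let μ : P ⟶ A := pullback.map (f ∣_ V) (Sigma.ι T O ≫ q) f g (f ⁻¹ᵁ V).ι b V.ι
    (morphismRestrict_ι f V) hb ≫ sq.flip.isoPullback.inv
  have hμ : μ ≫ p' = pullback.snd (f ∣_ V) (Sigma.ι T O ≫ q) ≫ b := by
    rw [Category.assoc, IsPullback.isoPullback_inv_snd]
    exact pullback.lift_snd _ _ _
  have hμr : Set.range μ ⊆ Set.range (p' ⁻¹ᵁ O').ι := by
    rw [Scheme.Opens.range_ι]
    rintro _ ⟨w, rfl⟩
    show p' (μ w) ∈ O'
    rw [← Scheme.Hom.comp_apply, hμ]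
    exact (pullback.snd (f ∣_ V) (Sigma.ι T O ≫ q) w).2
  have : IsOpenImmersion b := inferInstanceAs (IsOpenImmersion O'.ι)
  have : IsImmersion μ := inferInstance
  let ν : P ⟶ pullback (f ∣_ V) q :=
    pullback.map (f ∣_ V) (Sigma.ι T O ≫ q) (f ∣_ V) q (𝟙 _) (Sigma.ι T O) (𝟙 _) (by simp) (by simp)
  have hν : Set.range ν = (pullback.snd (f ∣_ V) q ⁻¹ᵁ (Sigma.ι T O).opensRange :
      Set ↥(pullback (f ∣_ V) q)) := by
    rw [Scheme.Pullback.range_map]
    ext w
    simp
  let W : (pullback (f ∣_ V) q).Opens := pullback.snd (f ∣_ V) q ⁻¹ᵁ (Sigma.ι T O).opensRange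
  let e : (W : Scheme.{u}) ≅ P :=
    IsOpenImmersion.isoOfRangeEq W.ι ν (by rw [Scheme.Opens.range_ι, hν])
  have : CompactSpace ↥(W : Scheme.{u}) := isCompact_iff_compactSpace.mp
    ((pullback.snd (f ∣_ V) q).isCompact_preimage (isAffineOpen_opensRange _).isCompact)
  have hO : IsAffineOpen O' := ht (O : ↥t).2
  have := hf'.2 O' hO
  let μ' := IsOpenImmersion.lift (p' ⁻¹ᵁ O').ι μ hμr
  have : IsImmersion (μ' ≫ (p' ⁻¹ᵁ O').ι) := by rw [IsOpenImmersion.lift_fac]; infer_instance
  have : IsImmersion μ' := IsImmersion.of_comp μ' (p' ⁻¹ᵁ O').ι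
  exact Scheme.IsQuasiAffine.of_isImmersion (e.hom ≫ μ')

end Groth.Agent.ImmDescent
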